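import Cfsg.Agent.Lib.Compute.Janko.Model
import Cfsg.Agent.Lib.Compute.Janko.AutJ1
import Cfsg.Agent.Lib.Compute.Janko.SchurJ1
import Cfsg.Agent.Lib.Compute.Janko.CentJ1
import Cfsg.Agent.Lib.Compute.Twin

/-! Outer automorphisms, multiplier and an involution centraliser of the first Janko group. -/

set_option autoImplicit false

namespace Cfsg.Agent.Lib.Compute.Janko

open Cfsg.Agent.Lib.Compute.Schur

theorem card_out_J1 : Nat.card (Cfsg.Out ↥Cfsg.Spor.J1) = 1 := by
  obtain ⟨e⟩ := exists_equiv
  rw [card_out_congr e]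
  exact card_out_eq_one _ gensOK_j1 j1Chain_ok j1Aut_ok

theorem schur_J1 : Cfsg.HasCyclicSchurMultiplier ↥Cfsg.Spor.J1 1 := by
  obtain ⟨e⟩ := exists_equiv
  refine Cfsg.Agent.Lib.Schur.hasSchurMultiplier_congr ?_ e.symm (MulEquiv.refl _)
  refine hasCyclicSchurMultiplier_one _ gensOK_j1 j1Chain_ok j1Chain_size [j1Schur2] ?_ ?_
    (rest_of_factors [2, 3, 5, 7, 11, 19] (by norm_num) ?_ (by decide +kernel))
  · rintro A hA
    rcases List.mem_singleton.1 hA with rfl
    exact ⟨Nat.prime_two, j1Schur2_ok⟩
  · rintro A hA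
    rcases List.mem_singleton.1 hA with rfl
    rfl
  · intro q hq
    fin_cases hq <;> norm_num

/-- The two-element group as permutations of two points. -/
def signTwo : Multiplicative (ZMod 2) →* Equiv.Perm (Fin 2) where
  toFun z := if z = 1 then 1 else Equiv.swap 0 1
  map_one' := if_pos rfl
  map_mul' := by decide +kernel

/-- The product with `A5` as permutations of seven points. -/
def sevenHom : Multiplicative (ZMod 2) × ↥(alternatingGroup (Fin 5)) →* Equiv.Perm (Fin 7) :=
  ((finSumFinEquiv (m := 5) (n := 2)).permCongrHom.toMonoidHom.comp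
    (Equiv.Perm.sumCongrHom (Fin 5) (Fin 2))).comp
      (((alternatingGroup (Fin 5)).subtype.comp (MonoidHom.snd _ _)).prod
        (signTwo.comp (MonoidHom.fst _ _)))

theorem sevenHom_injective : Function.Injective sevenHom := by
  intro x y h
  have h1 := Equiv.Perm.sumCongrHom_injective
    ((finSumFinEquiv (m := 5) (n := 2)).permCongrHom.injective h)
  simp only [MonoidHom.prod_apply, MonoidHom.comp_apply, Prod.mk.injEq] at h1
  refine Prod.ext ?_ (Subtype.ext h1.1)
  have key : ∀ a b : Multiplicative (ZMod 2), signTwo a = signTwo b → a = b := by decide +kernel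
  exact key _ _ h1.2

theorem exists_centraliser : ∃ t : ↥Cfsg.Spor.J1, orderOf t = 2 ∧
    Nonempty (↥(Subgroup.centralizer ({t} : Set ↥Cfsg.Spor.J1)) ≃*
      Multiplicative (ZMod 2) × ↥(alternatingGroup (Fin 5))) := by
  let C := permCoding 12 (Equiv.refl (Fin 266)) (show 266 ≤ 2 ^ 12 by norm_num)
  let C7 := permCoding 12 (Equiv.refl (Fin 7)) (show 7 ≤ 2 ^ 12 by norm_num)
  let CK := permCoding 12 (Equiv.refl (Fin 273)) (show 273 ≤ 2 ^ 12 by norm_num)
  have hS : GensOK C j1CentGens := gensOK_literal _ _ (by decide +kernel)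
  have hS7 : GensOK C7 twoA5Gens := gensOK_literal _ _ (by decide +kernel)
  have hK : GensOK CK j1GraphGens := gensOK_literal _ _ (by decide +kernel)
  have cS : Nat.card (genGroup C j1CentGens) = 120 := by
    rw [card_genGroup C hS (L := j1CentChain) (by decide +kernel)]; decide +kernel
  have c7 : Nat.card (genGroup C7 twoA5Gens) = 120 := by
    rw [card_genGroup C7 hS7 (L := twoA5Chain) (by decide +kernel)]; decide +kernel
  have cK : Nat.card (genGroup CK j1GraphGens) = 120 := by
    rw [card_genGroup CK hK (L := j1GraphChain) (by decide +kernel)]; decide +kernel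
  -- the graph group maps isomorphically to both blocks
  obtain ⟨k1, -, ek1, -⟩ := hK (j1GraphGens.getD 0 (0, 0)) (by decide +kernel)
  obtain ⟨k2, -, ek2, -⟩ := hK (j1GraphGens.getD 1 (0, 0)) (by decide +kernel)
  have hgs : ∀ g ∈ [k1, k2], g ∈ genGroup CK j1GraphGens := by
    intro g hg
    rcases List.mem_pair.1 hg with rfl | rfl
    · exact mem_genGroup_of_enc _ (by decide +kernel) ek1
    · exact mem_genGroup_of_enc _ (by decide +kernel) ek2
  have block : ∀ {m : ℕ} (o : ℕ) (ho : o + m ≤ 273) (T : List (ℕ × ℕ)),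
      (Nat.beq T.length 2 && (List.range 2).all fun i => (List.range m).all fun j =>
        Nat.blt (getP 12 (T.getD i (0, 0)).1 j) m &&
          Nat.beq (getP 12 (j1GraphGens.getD i (0, 0)).1 (o + j)) (o + getP 12 (T.getD i (0, 0)).1 j)) = true →
      ActsBy 12 (fun j : Fin m => (⟨o + j, by omega⟩ : Fin 273)) [k1, k2] T := by
    intro m o ho T h
    simp only [Bool.and_eq_true, List.all_eq_true, List.mem_range] at h
    obtain ⟨hl, hb⟩ := h
    refine ⟨(Nat.eq_of_beq_eq_true hl).symm, fun i g p hg hp j => ?_⟩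
    have hd : T.getD i (0, 0) = p := by rw [List.getD_eq_getElem?_getD, hp]; rfl
    have hi : i < 2 := by
      have := (List.getElem?_eq_some_iff.1 hg).1
      simpa using this
    have hgc : CK.enc g = (j1GraphGens.getD i (0, 0)).1 := by
      interval_cases i
      · simp only [List.getElem?_cons_zero, Option.some.injEq] at hg
        subst hg; exact ek1
      · simp only [List.getElem?_cons_succ, List.getElem?_cons_zero, Option.some.injEq] at hg
        subst hg; exact ek2
    obtain ⟨hlt, heq⟩ := hb i hi j j.isLt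
    rw [hd] at hlt heq
    refine ⟨by simpa [Nat.blt_eq] using hlt, Fin.ext ?_⟩
    have heq := Nat.eq_of_beq_eq_true heq
    rw [← hgc, permCoding_enc, getP_encP (by norm_num) _ _ (show o + (j : ℕ) < 273 by omega)] at heq
    simpa [imgP, show o + (j : ℕ) < 273 by omega, Equiv.Perm.smul_def] using heq
  have hinj : ∀ {m : ℕ} (o : ℕ) (ho : o + m ≤ 273),
      Function.Injective (fun j : Fin m => (⟨o + j, by omega⟩ : Fin 273)) := by
    intro m o ho a b h
    have := congrArg Fin.val h
    exact Fin.ext (by simpa using this)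
  obtain ⟨eS⟩ := nonempty_mulEquiv_genGroup (show 266 ≤ 2 ^ 12 by norm_num) (genGroup CK j1GraphGens)
    _ (hinj (m := 266) 0 (by norm_num)) [k1, k2] hgs hS
    (block 0 (by norm_num) j1CentGens (by decide +kernel)) (cK.trans cS.symm)
  obtain ⟨e7⟩ := nonempty_mulEquiv_genGroup (show 7 ≤ 2 ^ 12 by norm_num) (genGroup CK j1GraphGens)
    _ (hinj (m := 7) 266 (by norm_num)) [k1, k2] hgs hS7
    (block 266 (by norm_num) twoA5Gens (by decide +kernel)) (cK.trans c7.symm)
  have hrange : sevenHom.range = genGroup C7 twoA5Gens := by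
    refine (Subgroup.eq_of_le_of_card_ge ((Subgroup.closure_le _).2 ?_) ?_).symm
    · rintro g ⟨q, hq, hg⟩
      have key : (twoA5Gens.all fun q => decide (∃ x, encP 12 (Equiv.refl (Fin 7)) (sevenHom x) = q.1)) = true := by
        decide +kernel
      obtain ⟨x, hx⟩ := of_decide_eq_true (List.all_eq_true.1 key q hq)
      exact ⟨x, C7.inj (hx.trans hg.symm)⟩
    · show Nat.card sevenHom.range ≤ Nat.card (genGroup C7 twoA5Gens)
      rw [c7]
      refine (Nat.card_le_card_of_surjective sevenHom.rangeRestrict sevenHom.rangeRestrict_surjective).trans ?_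
      rw [Nat.card_eq_fintype_card]
      decide +kernel
  let eM : Multiplicative (ZMod 2) × ↥(alternatingGroup (Fin 5)) ≃* genGroup C7 twoA5Gens :=
    (MonoidHom.ofInjective sevenHom_injective).trans (MulEquiv.subgroupCongr hrange)
  -- the centraliser in the certified group
  obtain ⟨e⟩ := exists_equiv
  obtain ⟨τ, -, eτ, -⟩ := (gensOK_literal (S := [j1Invol]) (Equiv.refl (Fin 266))
    (show 266 ≤ 2 ^ 12 by norm_num) (by decide +kernel)) _ (List.mem_singleton_self j1Invol)
  have hτS : τ ∈ genGroup C j1Gens := by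
    obtain ⟨g, hg, eg, -⟩ := pairOK_pathEval C gensOK_j1 j1Chain_ok j1InvolPath
    have : g = τ := C.inj (by
      rw [eg, eτ]
      exact Nat.eq_of_beq_eq_true (show Nat.beq (pathEval (permOps 12 266) j1Chain j1InvolPath).1
        j1Invol.1 = true by decide +kernel))
    exact this ▸ hg
  have hchain : chainCheck (permOps 12 266) j1Gens j1InvolChain = true := by decide +kernel
  have hcard : Nat.card ((genGroup C j1Gens) ⊓ Subgroup.centralizer {τ} : Subgroup _) = 120 := by
    rw [card_centraliser C gensOK_j1 hchain (by rw [eτ]; decide +kernel), eτ]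
    decide +kernel
  have hle : genGroup C j1CentGens ≤ genGroup C j1Gens ⊓ Subgroup.centralizer {τ} := by
    refine (Subgroup.closure_le _).2 ?_
    rintro g ⟨q, hq, hg⟩
    have key : (pairsEq (j1CentPaths.map (pathEval (permOps 12 266) j1Chain)) j1CentGens &&
        j1CentGens.all fun q => Nat.beq ((permOps 12 266).mul q.1 j1Invol.1)
          ((permOps 12 266).mul j1Invol.1 q.1)) = true := by decide +kernel
    simp only [Bool.and_eq_true] at key
    rw [← pairsEq_eq key.1] at hq
    obtain ⟨xs, hxs, rfl⟩ := List.mem_map.1 hq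
    obtain ⟨g', hg', eg', -⟩ := pairOK_pathEval C gensOK_j1 j1Chain_ok xs
    obtain rfl := C.inj (hg.trans eg'.symm)
    refine Subgroup.mem_inf.2 ⟨hg', Subgroup.mem_centralizer_singleton_iff.2 (C.inj ?_)⟩
    have hm := List.all_eq_true.1 key.2 _ (by rw [← pairsEq_eq key.1]; exact List.mem_map.2 ⟨xs, hxs, rfl⟩)
    rw [← C.mul_enc, ← C.mul_enc, hg, eτ]
    exact Nat.eq_of_beq_eq_true hm
  have heq := Subgroup.eq_of_le_of_card_ge hle (by rw [hcard, cS])
  let t : ↥Cfsg.Spor.J1 := e.symm ⟨τ, hτS⟩
  refine ⟨t, ?_, ⟨?_⟩⟩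
  · rw [MulEquiv.orderOf_eq, Subgroup.orderOf_mk]
    refine orderOf_eq_prime (C.inj ?_) fun h1 => ?_
    · rw [pow_two, ← C.mul_enc, eτ, C.one_enc]
      exact Nat.eq_of_beq_eq_true (show Nat.beq ((permOps 12 266).mul j1Invol.1 j1Invol.1)
        (permOps 12 266).one = true by decide +kernel)
    · have h2 := congrArg C.enc h1
      rw [eτ, C.one_enc] at h2
      exact absurd h2 (by decide +kernel)
  · -- transport the centraliser
    have hmap : (Subgroup.centralizer ({t} : Set ↥Cfsg.Spor.J1)).map
        ((genGroup C j1Gens).subtype.comp e.toMonoidHom) = genGroup C j1CentGens := by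
      rw [heq]
      ext g
      simp only [Subgroup.mem_map, Subgroup.mem_centralizer_singleton_iff, MonoidHom.comp_apply,
        Subgroup.mem_inf, MulEquiv.coe_toMonoidHom, Subgroup.coe_subtype]
      constructor
      · rintro ⟨x, hx, rfl⟩
        refine ⟨(e x).2, ?_⟩
        have h2 := congrArg (fun y => ((e y : genGroup C j1Gens) : Equiv.Perm (Fin 266))) hx
        simpa [t] using h2
      · rintro ⟨hg, hc⟩
        refine ⟨e.symm ⟨g, hg⟩, e.injective ?_, by simp⟩
        rw [map_mul, map_mul, MulEquiv.apply_symm_apply, MulEquiv.apply_symm_apply]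
        exact Subtype.ext hc
    have hi : Function.Injective ((genGroup C j1Gens).subtype.comp e.toMonoidHom) :=
      (genGroup C j1Gens).subtype_injective.comp e.injective
    exact ((Subgroup.equivMapOfInjective _ _ hi).trans (MulEquiv.subgroupCongr hmap)).trans
      (eS.symm.trans (e7.trans eM.symm))

end Cfsg.Agent.Lib.Compute.Janko
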