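import Cfsg.Agent.Lib.Compute.Janko.CertJ1
import Cfsg.Agent.Lib.Compute.ActionImage
import Cfsg.Agent.Lib.JankoOne.Simple

/-! The first Janko group as a certified permutation group on 266 cosets. -/

set_option autoImplicit false

namespace Cfsg.Agent.Lib.Compute.Janko

open Cfsg.Agent.Lib.JankoOne

/-- The codes agree with the two coset tables. -/
noncomputable def tableCheck : Bool :=
  Nat.beq j1Gens.length 2 && (List.range 266).all fun i =>
    Nat.beq (getP 12 (j1Gens.getD 0 (0, 0)).1 i) (fstP (repStepX.get i)) &&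
      Nat.beq (getP 12 (j1Gens.getD 1 (0, 0)).1 i) (fstP (repStepY.get i))

theorem table_ok : tableCheck = true := by decide +kernel

theorem gensOK_j1 : GensOK (permCoding 12 (Equiv.refl (Fin 266)) (by norm_num)) j1Gens :=
  gensOK_literal _ _ (by decide +kernel)

theorem sub_mem : ∀ i < 660, ∀ g : GL7, encG g = subList.get i → g ∈ Cfsg.Spor.J1 := by
  intro i
  induction i using Nat.strong_induction_on with
  | _ i ih =>
    intro hi g hg
    have hr := of_range_all subTree_ok hi
    by_cases h0 : i = 0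
    · subst h0
      simp only [subTreeRow, Nat.beq_refl, cond_true] at hr
      rw [encG_injective (hg.trans (by rw [encG_one, Nat.eq_of_beq_eq_true hr] : subList.get 0 = encG 1))]
      exact one_mem _
    · rw [subTreeRow, JankoOne.beq_false_of_ne h0, cond_false, Bool.and_eq_true] at hr
      have hp := lt_of_blt hr.1
      obtain ⟨u, hu, -⟩ := sub_mul _ (hp.trans hi)
      have hum := ih _ hp (hp.trans hi) u hu
      obtain ⟨w, hw⟩ : ∃ w : List Bool, encG (wordG w) = subGen (fstP (subTree.get i)) := by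
        by_cases ht : fstP (subTree.get i) = 0
        · exact ⟨wordA, by rw [encG_wordG, wordC_A, ht]; rfl⟩
        · exact ⟨wordB, by rw [encG_wordG, wordC_B, subGen, JankoOne.beq_false_of_ne ht]⟩
      have : g = wordG w * u := encG_injective (by
        rw [hg, ← mulC_encG, hw, hu, Nat.eq_of_beq_eq_true hr.2])
      exact this ▸ mul_mem (wordG_mem w) hum

/-- The subgroup of order 660. -/
def subJ : Subgroup ↥Cfsg.Spor.J1 where
  carrier := {g | IsSub g.1}
  one_mem' := isSub_one
  mul_mem' := fun ha hb => IsSub.mul ha hb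
  inv_mem' := by
    intro g hg
    obtain ⟨n, hn, he⟩ : ∃ n, 0 < n ∧ g ^ n = 1 :=
      ⟨Nat.card ↥Cfsg.Spor.J1, Nat.card_pos, pow_card_eq_one'⟩
    have hinv : g⁻¹ = g ^ (n - 1) :=
      inv_eq_of_mul_eq_one_right (by rw [← pow_succ', Nat.sub_add_cancel hn, he])
    rw [hinv]
    have : ∀ k, IsSub (g ^ k).1 := by
      intro k
      induction k with
      | zero => exact isSub_one
      | succ k ih => rw [pow_succ]; exact ih.mul hg
    exact this _

theorem card_subJ_le : Nat.card subJ ≤ 660 := by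
  choose f hf hf' using fun g : subJ => g.2
  have hinj : Function.Injective fun g : subJ => (⟨f g, hf g⟩ : Fin 660) := fun a b h =>
    Subtype.ext (Subtype.ext (encG_injective (by rw [hf' a, hf' b, show f a = f b from congrArg Fin.val h])))
  simpa using Nat.card_le_card_of_injective _ hinj

theorem rep_exists : ∀ i : Fin 266, ∃ r : ↥Cfsg.Spor.J1, encG r.1 = repList.get i := by
  intro i
  obtain ⟨w, k, ⟨a, ha, hwa⟩, -, he⟩ := rep_dbl i i.isLt
  exact ⟨⟨_, mul_mem (sub_mem a ha w hwa) (wordG_mem _)⟩, he⟩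

theorem exists_equiv :
    Nonempty (↥Cfsg.Spor.J1 ≃* genGroup (permCoding 12 (Equiv.refl (Fin 266)) (by norm_num)) j1Gens) := by
  choose r hr using rep_exists
  let pts : Fin 266 → ↥Cfsg.Spor.J1 ⧸ subJ := fun i => QuotientGroup.mk (r i)
  have hsurj : Function.Surjective pts := by
    intro q
    obtain ⟨g, rfl⟩ := QuotientGroup.mk_surjective q
    obtain ⟨i, hi, r', h, hr', hh, hg⟩ := inCosets_of_mem g.2
    refine ⟨⟨i, hi⟩, QuotientGroup.eq.2 ?_⟩
    have e : (r ⟨i, hi⟩).1 = r' := encG_injective ((hr ⟨i, hi⟩).trans hr'.symm)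
    show IsSub ((r ⟨i, hi⟩)⁻¹ * g).1
    rw [Subgroup.coe_mul, Subgroup.coe_inv, e, hg, inv_mul_cancel_left]
    exact hh
  have hinj : Function.Injective pts := by
    refine (hsurj.bijective_of_nat_card_le ?_).1
    have h := Subgroup.card_mul_index subJ
    rw [card_janko, Subgroup.index_eq_card] at h
    rw [Nat.card_eq_fintype_card, Fintype.card_fin]
    by_contra hlt
    nlinarith [card_subJ_le, Nat.not_le.1 hlt, Nat.zero_le (Nat.card subJ)]
  have hstep : ∀ (x : GL7) (hx : x ∈ Cfsg.Spor.J1) (c : ℕ) (T : Tab), encG x = c →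
      (List.range 266).all (repStepRow c T) = true → ∀ i : Fin 266, ∃ hj : fstP (T.get i) < 266,
        (⟨x, hx⟩ : ↥Cfsg.Spor.J1) • pts i = pts ⟨_, hj⟩ := by
    intro x hx c T hc hT i
    have hrow := of_range_all hT i.isLt
    simp only [repStepRow, Bool.and_eq_true] at hrow
    have hj := lt_of_blt hrow.1.1
    obtain ⟨u, hu, humul⟩ := sub_mul _ (lt_of_blt hrow.1.2)
    have hus : IsSub u := by simpa using humul 1 isSub_one
    refine ⟨hj, QuotientGroup.eq.2 ?_⟩
    have key : x * (r i).1 = (r ⟨_, hj⟩).1 * u := by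
      apply encG_injective
      rw [← mulC_encG, ← mulC_encG, hc, hr, hr, hu]
      exact Nat.eq_of_beq_eq_true hrow.2
    obtain ⟨n, hn, hun⟩ : ∃ n, 0 < n ∧ u ^ n = 1 :=
      ⟨Nat.card GL7, Nat.card_pos, pow_card_eq_one'⟩
    have hinv : u⁻¹ = u ^ (n - 1) :=
      inv_eq_of_mul_eq_one_right (by rw [← pow_succ', Nat.sub_add_cancel hn, hun])
    show IsSub ((x * (r i).1)⁻¹ * (r ⟨_, hj⟩).1)
    rw [key, mul_inv_rev, mul_assoc, inv_mul_cancel, mul_one, hinv]
    have : ∀ k, IsSub (u ^ k) := by
      intro k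
      induction k with
      | zero => exact isSub_one
      | succ k ih => rw [pow_succ]; exact ih.mul hus
    exact this _
  have htab := table_ok
  simp only [tableCheck, Bool.and_eq_true, List.all_eq_true, List.mem_range] at htab
  obtain ⟨hlen, htab⟩ := htab
  have hX : Cfsg.Spor.jankoX ∈ Cfsg.Spor.J1 := Subgroup.subset_closure (Set.mem_insert _ _)
  have hY : Cfsg.Spor.jankoY ∈ Cfsg.Spor.J1 := Subgroup.subset_closure (Set.mem_insert_of_mem _ rfl)
  have hacts : ActsBy 12 pts [(⟨_, hX⟩ : ↥Cfsg.Spor.J1), ⟨_, hY⟩] j1Gens := by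
    refine ⟨(Nat.eq_of_beq_eq_true hlen).symm, fun i g p hg hp j => ?_⟩
    have hd : j1Gens.getD i (0, 0) = p := by rw [List.getD_eq_getElem?_getD, hp]; rfl
    match i with
    | 0 =>
      simp only [List.getElem?_cons_zero, Option.some.injEq] at hg
      subst hg
      obtain ⟨hj, he⟩ := hstep _ hX genX repStepX
        encG_jankoX repStepX_ok j
      have e' : getP 12 p.1 j = fstP (repStepX.get j) := by
        rw [← hd]; exact Nat.eq_of_beq_eq_true (htab j j.isLt).1
      exact ⟨e' ▸ hj, he.trans (congrArg pts (Fin.ext e'.symm))⟩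
    | 1 =>
      simp only [List.getElem?_cons_succ, List.getElem?_cons_zero, Option.some.injEq] at hg
      subst hg
      obtain ⟨hj, he⟩ := hstep _ hY genY repStepY
        encG_jankoY repStepY_ok j
      have e' : getP 12 p.1 j = fstP (repStepY.get j) := by
        rw [← hd]; exact Nat.eq_of_beq_eq_true (htab j j.isLt).2
      exact ⟨e' ▸ hj, he.trans (congrArg pts (Fin.ext e'.symm))⟩
    | i + 2 => simp at hg

  obtain ⟨e⟩ := nonempty_mulEquiv_genGroup (show 266 ≤ 2 ^ 12 by norm_num) (⊤ : Subgroup ↥Cfsg.Spor.J1)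
    pts hinj _ (fun g _ => Subgroup.mem_top g) gensOK_j1 hacts
    (by rw [Subgroup.card_top, card_janko, card_genGroup _ gensOK_j1 j1Chain_ok, j1Chain_size])
  exact ⟨Subgroup.topEquiv.symm.trans e⟩

end Cfsg.Agent.Lib.Compute.Janko
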